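import Cfsg.Agent.VAN.Fin.Four
import Cfsg.Agent.TAB.F42.G.Main
import Cfsg.Agent.TAB.HN.Main

/-! # S4942: reduction to the tables of the two large Fischer groups (helper82) -/

set_option autoImplicit false

namespace Cfsg.Agent.VAN.Fin

universe u

theorem main_two (fi23 : TAB.F23.In) (fi24 : TAB.F24.In0)
    {G : Type u} [Group G] [Finite G] [IsSimpleGroup G] (hna : ¬ IsMulCommutative G) :
    ∃ g₁ g₂ g₃ : G, ∀ χ : Cfsg.IrrCharacter G, Cfsg.charDegree (χ : G → ℂ) ≠ 1 →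
      (χ : G → ℂ) g₁ = 0 ∨ (χ : G → ℂ) g₂ = 0 ∨ (χ : G → ℂ) g₃ = 0 :=
  main_four TAB.F42.G.main fi23 fi24 TAB.HN.van hna

end Cfsg.Agent.VAN.Fin
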