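import Cfsg.Agent.VAN.Fin.Red
import Cfsg.Agent.VAN.C.Rows
import Cfsg.Agent.VAN.Rk.All
import Cfsg.Agent.TAB.B.Fin.Main
import Cfsg.Agent.TAB.F42.Use
import Cfsg.Agent.TAB.F23.Use
import Cfsg.Agent.TAB.F24.Use
import Cfsg.Agent.TAB.HN.Tab

/-! # S4942: reduction to four tables (helper82) -/

set_option autoImplicit false

namespace Cfsg.Agent.VAN.Fin

universe u

theorem main_four (f42 : TAB.F42.In) (fi23 : TAB.F23.In) (fi24 : TAB.F24.In0) (hn : Van3 Spor.HN)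
    {G : Type u} [Group G] [Finite G] [IsSimpleGroup G] (hna : ¬ IsMulCommutative G) :
    ∃ g₁ g₂ g₃ : G, ∀ χ : Cfsg.IrrCharacter G, Cfsg.charDegree (χ : G → ℂ) ≠ 1 →
      (χ : G → ℂ) g₁ = 0 ∨ (χ : G → ℂ) g₂ = 0 ∨ (χ : G → ℂ) g₃ = 0 :=
  main_of C.row_psp C.row_oodd C.row_oplus Rk.row_f4t (fun F _ _ hF => TAB.F42.van_in f42 F hF)
    (TAB.F23.van_of fi23) (TAB.F24.van_of fi24) hn TAB.B.Fin.van hna

end Cfsg.Agent.VAN.Fin
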