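import Cfsg.Agent.VAN.Fin.SporA
import Cfsg.Agent.VAN.Alt.Row
import Cfsg.Agent.VAN.Lin.GlTwo
import Cfsg.Agent.VAN.Lin.UFourTwo
import Cfsg.Agent.VAN.C.Kap
import Cfsg.Agent.VAN.Rk.Kaw
import Cfsg.Agent.VAN.Rk.One
import Cfsg.Agent.VAN.Rk.GThree
import Cfsg.Agent.VAN.Rk.TD4
import Cfsg.Agent.VAN.E.E8
import Cfsg.Agent.VAN.F.Main
import Cfsg.Agent.S0000

/-! # S4942: reduction to the last rows (helper82) -/

set_option autoImplicit false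

namespace Cfsg.Agent.VAN.Fin

universe u

theorem main_of (psp : Row.{u} fun G _ => IsPSp G) (oodd : Row.{u} fun G _ => IsPOmegaOdd G)
    (oplus : Row.{u} fun G _ => IsPOmegaPlus G) (f4t : Row.{u} fun G _ => Lie.Iso2F4 G)
    (f42 : ∀ (F : Type) [Field F] [Fintype F], Fintype.card F = 2 → Van3 (Lie.chevF4.group F))
    (fi23 : Van3 Spor.Fi23) (fi24 : Van3 Spor.Fi24') (hn : Van3 Spor.HN) (b : Van3 Spor.BabyMonster)
    {G : Type u} [Group G] [Finite G] [IsSimpleGroup G] (hna : ¬ IsMulCommutative G) :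
    ∃ g₁ g₂ g₃ : G, ∀ χ : Cfsg.IrrCharacter G, Cfsg.charDegree (χ : G → ℂ) ≠ 1 →
      (χ : G → ℂ) g₁ = 0 ∨ (χ : G → ℂ) g₂ = 0 ∨ (χ : G → ℂ) g₃ = 0 :=
  VAN.main (fun _ _ _ _ => S0000.result) Alt.altRow ⟨Lin.row_psl, psp, Lin.row_psu, oodd, oplus, C.row_ominus⟩
    ⟨Rk.row_g2, F.row_f4_of f42, Rk.row_e6, Rk.row_e7, E.row_e8, Rk.row_e6t, Rk.row_d4t, Rk.row_sz, Rk.row_ree, f4t⟩
    (spor_of (fun _ _ _ _ _ h => h.elim fun e => fi23.of_equiv e.symm)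
      (fun _ _ _ _ _ h => h.elim fun e => fi24.of_equiv e.symm) (fun _ _ _ _ _ h => h.elim fun e => hn.of_equiv e.symm)
      fun _ _ _ _ _ h => h.elim fun e => b.of_equiv e.symm) hna

end Cfsg.Agent.VAN.Fin
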