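import Cfsg.Agent.VAN.Iface
import Cfsg.Agent.TAB.Sm2.Tits
import Cfsg.Agent.TAB.Sm2.M11
import Cfsg.Agent.TAB.Sm2.M12
import Cfsg.Agent.TAB.Sm2.M22
import Cfsg.Agent.TAB.Sm2.M23
import Cfsg.Agent.TAB.Sm2.M24
import Cfsg.Agent.TAB.J1.Main
import Cfsg.Agent.TAB.J2.Main
import Cfsg.Agent.TAB.J3.Main
import Cfsg.Agent.TAB.J4.Main
import Cfsg.Agent.TAB.Co1.Main
import Cfsg.Agent.TAB.Co2.Main
import Cfsg.Agent.TAB.Co3.Main
import Cfsg.Agent.TAB.McL.Main
import Cfsg.Agent.TAB.HS.Main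
import Cfsg.Agent.TAB.Suz.Main
import Cfsg.Agent.TAB.He.Main
import Cfsg.Agent.TAB.Ru.Main
import Cfsg.Agent.TAB.ON.Main
import Cfsg.Agent.TAB.Ly.Main
import Cfsg.Agent.TAB.F22.Main
import Cfsg.Agent.TAB.Th.Main
import Cfsg.Agent.TAB.M.Main

/-! # S4942: the sporadic rows, first part (helper82) -/

set_option autoImplicit false

namespace Cfsg.Agent.VAN.Fin

universe u

theorem tits : Row.{u} (fun G _ => Lie.IsoTits G) := fun _ _ _ _ _ h => h.elim fun e => TAB.Sm2.Tits.van.of_equiv e.symm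

theorem m11 : Row.{u} (fun G _ => Spor.IsoM11 G) := fun _ _ _ _ _ h => h.elim fun e => TAB.Sm2.M11.van.of_equiv e.symm

theorem m12 : Row.{u} (fun G _ => Spor.IsoM12 G) := fun _ _ _ _ _ h => h.elim fun e => TAB.Sm2.M12.van.of_equiv e.symm

theorem m22 : Row.{u} (fun G _ => Spor.IsoM22 G) := fun _ _ _ _ _ h => h.elim fun e => TAB.Sm2.M22.van.of_equiv e.symm

theorem m23 : Row.{u} (fun G _ => Spor.IsoM23 G) := fun _ _ _ _ _ h => h.elim fun e => TAB.Sm2.M23.van.of_equiv e.symm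

theorem m24 : Row.{u} (fun G _ => Spor.IsoM24 G) := fun _ _ _ _ _ h => h.elim fun e => TAB.Sm2.M24.van.of_equiv e.symm

theorem j1 : Row.{u} (fun G _ => Spor.IsoJ1 G) := fun _ _ _ _ _ h => h.elim fun e => TAB.J1.van.of_equiv e.symm

theorem j2 : Row.{u} (fun G _ => Spor.IsoJ2 G) := fun _ _ _ _ _ h => h.elim fun e => TAB.J2.van.of_equiv e.symm

theorem j3 : Row.{u} (fun G _ => Spor.IsoJ3 G) := fun _ _ _ _ _ h => TAB.J3.van h

theorem j4 : Row.{u} (fun G _ => Spor.IsoJ4 G) := fun _ _ _ _ _ h => h.elim fun e => TAB.J4.van.of_equiv e.symm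

theorem co1 : Row.{u} (fun G _ => Spor.IsoCo1 G) := fun _ _ _ _ _ h => h.elim fun e => TAB.Co1.van.of_equiv e.symm

theorem co2 : Row.{u} (fun G _ => Spor.IsoCo2 G) := fun _ _ _ _ _ h => h.elim fun e => TAB.Co2.van.of_equiv e.symm

theorem co3 : Row.{u} (fun G _ => Spor.IsoCo3 G) := fun _ _ _ _ _ h => h.elim fun e => TAB.Co3.van.of_equiv e.symm

theorem mcl : Row.{u} (fun G _ => Spor.IsoMcL G) := fun _ _ _ _ _ h => h.elim fun e => TAB.McL.van.of_equiv e.symm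

theorem hs : Row.{u} (fun G _ => Spor.IsoHS G) := fun _ _ _ _ _ h => h.elim fun e => TAB.HS.van.of_equiv e.symm

theorem suz : Row.{u} (fun G _ => Spor.IsoSuz G) := fun _ _ _ _ _ h => h.elim fun e => TAB.Suz.van.of_equiv e.symm

theorem he : Row.{u} (fun G _ => Spor.IsoHe G) := fun _ _ _ _ _ h => h.elim fun e => TAB.He.van.of_equiv e.symm

theorem ru : Row.{u} (fun G _ => Spor.IsoRu G) := fun _ _ _ _ _ h => h.elim fun e => TAB.Ru.van.of_equiv e.symm

theorem on : Row.{u} (fun G _ => Spor.IsoON G) := fun _ _ _ _ _ h => h.elim fun e => TAB.ON.van.of_equiv e.symm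

theorem ly : Row.{u} (fun G _ => Spor.IsoLy G) := fun _ _ _ _ _ h => h.elim fun e => TAB.Ly.van.of_equiv e.symm

theorem fi22 : Row.{u} (fun G _ => Spor.IsoFi22 G) := fun _ _ _ _ _ h => h.elim fun e => TAB.F22.van.of_equiv e.symm

theorem th : Row.{u} (fun G _ => Spor.IsoTh G) := fun _ _ _ _ _ h => h.elim fun e => TAB.Th.van.of_equiv e.symm

theorem m : Row.{u} (fun G _ => Spor.IsoM G) := fun _ _ _ _ _ h => h.elim fun e => TAB.M.van.of_equiv e.symm

theorem spor_of (fi23 : Row.{u} fun G _ => Spor.IsoFi23 G) (fi24 : Row.{u} fun G _ => Spor.IsoFi24' G)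
    (hn : Row.{u} fun G _ => Spor.IsoHN G) (b : Row.{u} fun G _ => Spor.IsoB G) : SporRows.{u} :=
  ⟨tits, m11, m12, m22, m23, m24, j1, j2, j3, j4, co1, co2, co3, mcl,
    hs, suz, he, ru, on, ly, fi22, fi23, fi24, hn, th, b, m⟩

end Cfsg.Agent.VAN.Fin
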